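import Cfsg.Agent.H91.DerivedAut
import Cfsg.Agent.H42.J4.Cent

/-!
A model for the automorphism group of `M22`: the stabiliser in `M24` of the pair of special points,
acting on `M22` by conjugation.
-/

set_option autoImplicit false

open Cfsg
open scoped Pointwise

namespace H29.M22

open H25.M22 (G22)

/-- The stabiliser in `M24` of the pair of special points. -/
def A22 : Subgroup (Equiv.Perm GolayPt) :=
  M24 ⊓ MulAction.stabilizer (Equiv.Perm GolayPt) H91.Derived.pairPts

theorem mem_A22 {g : Equiv.Perm GolayPt} :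
    g ∈ A22 ↔ g ∈ M24 ∧ ((g none = none ∧ g (some 0) = some 0) ∨
      (g none = some 0 ∧ g (some 0) = none)) := by
  rw [A22, Subgroup.mem_inf, MulAction.mem_stabilizer_iff]
  refine and_congr_right fun _ => ?_
  constructor
  · intro h
    have hne : g none ≠ g (some 0) := fun e => by simpa using g.injective e
    have h1 : g none ∈ H91.Derived.pairPts := by
      rw [← h]; exact Finset.smul_mem_smul_finset (by simp [H91.Derived.pairPts])
    have h2 : g (some 0) ∈ H91.Derived.pairPts := by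
      rw [← h]; exact Finset.smul_mem_smul_finset (by simp [H91.Derived.pairPts])
    simp only [H91.Derived.pairPts, Finset.mem_insert, Finset.mem_singleton] at h1 h2
    rcases h1 with h1 | h1 <;> rcases h2 with h2 | h2
    · exact absurd (h1.trans h2.symm) hne
    · exact Or.inl ⟨h1, h2⟩
    · exact Or.inr ⟨h1, h2⟩
    · exact absurd (h1.trans h2.symm) hne
  · rintro (⟨h1, h2⟩ | ⟨h1, h2⟩)
    · simp [H91.Derived.pairPts, Finset.smul_finset_def, Equiv.Perm.smul_def, h1, h2]
    · simp [H91.Derived.pairPts, Finset.smul_finset_def, Equiv.Perm.smul_def, h1, h2,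
        Finset.pair_comm]

theorem mem_M22_iff {g : Equiv.Perm GolayPt} :
    g ∈ Spor.M22 ↔ g ∈ M24 ∧ g none = none ∧ g (some 0) = some 0 := by
  simp [Spor.M22, Spor.M23, Subgroup.mem_inf, MulAction.mem_stabilizer_iff, Equiv.Perm.smul_def,
    and_assoc]

theorem m22_le_A22 : Spor.M22 ≤ A22 := fun g hg => by
  obtain ⟨hM, h1, h2⟩ := mem_M22_iff.1 hg
  exact mem_A22.2 ⟨hM, Or.inl ⟨h1, h2⟩⟩

theorem card_A22 : Nat.card A22 = 887040 := by
  rw [← H91.Derived.card_pairStab]
  refine (Nat.card_congr ?_).symm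
  exact
    { toFun := fun g => ⟨g.1.1, Subgroup.mem_inf.2 ⟨g.1.2, g.2⟩⟩
      invFun := fun g => ⟨⟨g.1, (Subgroup.mem_inf.1 g.2).1⟩, (Subgroup.mem_inf.1 g.2).2⟩
      left_inv := fun _ => rfl
      right_inv := fun _ => rfl }

theorem conj_mem {g s : Equiv.Perm GolayPt} (hg : g ∈ A22) (hs : s ∈ Spor.M22) :
    g * s * g⁻¹ ∈ Spor.M22 := by
  obtain ⟨hM, hg⟩ := mem_A22.1 hg
  obtain ⟨hsM, h1, h2⟩ := mem_M22_iff.1 hs
  refine mem_M22_iff.2 ⟨M24.mul_mem (M24.mul_mem hM hsM) (M24.inv_mem hM), ?_⟩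
  rcases hg with ⟨g1, g2⟩ | ⟨g1, g2⟩
  · exact ⟨by simp [(Equiv.symm_apply_eq g).2 g1.symm, h1, g1],
      by simp [(Equiv.symm_apply_eq g).2 g2.symm, h2, g2]⟩
  · exact ⟨by simp [(Equiv.symm_apply_eq g).2 g2.symm, h2, g2],
      by simp [(Equiv.symm_apply_eq g).2 g1.symm, h1, g1]⟩

theorem normalises {g : Equiv.Perm GolayPt} (hg : g ∈ A22) (s : Equiv.Perm GolayPt) :
    s ∈ Spor.M22 ↔ g * s * g⁻¹ ∈ Spor.M22 :=
  ⟨conj_mem hg, fun h => by simpa [mul_assoc] using conj_mem (A22.inv_mem hg) h⟩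

/-- The action of the model on `M22`. -/
def toAut : ↥A22 →* MulAut G22 where
  toFun g := H97.MOut.normAut g.1 (normalises g.2)
  map_one' := by
    ext x : 2
    show (1 : Equiv.Perm GolayPt) * x.1 * 1⁻¹ = x.1
    simp
  map_mul' g h := by
    ext x : 2
    show g.1 * h.1 * x.1 * (g.1 * h.1)⁻¹ = g.1 * (h.1 * x.1 * h.1⁻¹) * g.1⁻¹
    simp [mul_assoc]

@[simp] theorem toAut_apply (g : ↥A22) (x : G22) : ((toAut g) x).1 = g.1 * x.1 * g.1⁻¹ := rfl

theorem toAut_inner (x : G22) : toAut ⟨x.1, m22_le_A22 x.2⟩ = MulAut.conj x := by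
  ext y : 2
  rfl

theorem exists_outer : ∃ g : ↥A22, toAut g ∉ (MulAut.conj : G22 →* MulAut G22).range := by
  have hd : (H97.MOut.dataM22.outer.elim false fun o => H87.mem24 o &&
      (H90.packAux (fun i => H90.img o i) 24 == o) &&
      (H90.img o 23 == 0) && (H90.img o 0 == 23)) = true := by decide +kernel
  obtain ⟨o, ho⟩ : ∃ o, H97.MOut.dataM22.outer = some o := ⟨_, rfl⟩
  rw [ho] at hd
  simp only [Option.elim, Bool.and_eq_true, beq_iff_eq] at hd
  obtain ⟨σ, hσ24, hσ⟩ := H87.exists_of_mem24 hd.1.1.1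
  have h1 : σ none = some 0 := (hσ.apply_eq_iff none (some 0)).2 hd.1.2
  have h2 : σ (some 0) = none := (hσ.apply_eq_iff (some 0) none).2 hd.2
  refine ⟨⟨σ, mem_A22.2 ⟨hσ24, Or.inr ⟨h1, h2⟩⟩⟩, ?_⟩
  exact H97.MOut.result_M22.notInner σ _
    (by rw [ho, (H97.MOut.code_of_repr hσ).trans hd.1.1.2]) fun g => rfl

theorem toAut_bijective : Function.Bijective toAut := by
  have hs : Function.Surjective toAut := by
    rw [← MonoidHom.range_eq_top]
    have hle : (MulAut.conj : G22 →* MulAut G22).range ≤ toAut.range := by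
      rintro _ ⟨x, rfl⟩
      exact ⟨_, toAut_inner x⟩
    have hi : (MulAut.conj : G22 →* MulAut G22).range.index = 2 := H97.MOut.card_out_M22
    have h := Subgroup.relIndex_mul_index hle
    rw [hi] at h
    rcases (Nat.dvd_prime Nat.prime_two).1 (Dvd.intro_left _ h) with h' | h'
    · exact Subgroup.index_eq_one.1 h'
    · exfalso
      obtain ⟨g, hg⟩ := exists_outer
      rw [h'] at h
      have h1 : (MulAut.conj : G22 →* MulAut G22).range.relIndex toAut.range = 1 := by omega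
      exact hg (Subgroup.relIndex_eq_one.1 h1 (MonoidHom.mem_range.2 ⟨g, rfl⟩))
  haveI : Finite ↥A22 := Nat.finite_of_card_ne_zero (by rw [card_A22]; norm_num)
  exact (Nat.bijective_iff_surjective_and_card toAut).2 ⟨hs, by rw [card_A22, H42.J4.card_aut22]⟩

/-- `Aut M22` is the pair stabiliser in `M24`. -/
noncomputable def autEquiv : ↥A22 ≃* MulAut G22 := MulEquiv.ofBijective toAut toAut_bijective

theorem autEquiv_inner (x : G22) : autEquiv ⟨x.1, m22_le_A22 x.2⟩ = MulAut.conj x := toAut_inner x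

/-- Inner automorphisms correspond to the elements fixing the two special points. -/
theorem autEquiv_mem_inner (g : ↥A22) :
    autEquiv g ∈ (MulAut.conj : G22 →* MulAut G22).range ↔ (g : Equiv.Perm GolayPt) none = none := by
  constructor
  · rintro ⟨x, hx⟩
    rw [← autEquiv_inner] at hx
    rw [← autEquiv.injective hx]
    exact (mem_M22_iff.1 x.2).2.1
  · intro h
    obtain ⟨hM, ⟨h1, h2⟩ | ⟨h1, -⟩⟩ := mem_A22.1 g.2
    · exact ⟨⟨g.1, mem_M22_iff.2 ⟨hM, h1, h2⟩⟩, (autEquiv_inner _).symm⟩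
    · simp [h] at h1

end H29.M22
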