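import Mathlib

/-!
The involutions centralising the representative involution of `M22`, and an element of order three.
-/

namespace H29.M22

/-- the other involutions of the centraliser of the representative -/
def zInvols : List ℕ := [
  960139612709388908960211975096961056,
  973054518210042674313238929715267616,
  974393957471495370344329307904968736,
  961438956620049001677386430328277024,
  976934804572108675034832543981668384,
  974027552735757545258125379239413792,
  974422238081544939122441376219924512,
  962223308431878189186809386174122016,
  977839867786251717525204161457686560,
  984723249968559545477841165439377760,
  978288180344178655415768347585978720,
  977029799138849977702692097382031712,
  973945644914022110970435173357822304,
  956808910070693464114942713217596096,
  983556734225721270408659688667254880,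
  982062253446977559283173177126401184,
  966299849372061425927814308339959296,
  969868602686873633068742715037598240,
  967732770601138460095365148658898336,
  984713093390188445415386470434743936,
  973111477587819396832522393575630464,
  962320813022503292100522067620308608,
  973881898467304457077792891094541952,
  983992320483950390445268853277707936,
  960640935097623600283404633184358048,
  973606461760135017242396451293777568,
  959331455310918617637209142647803552,
  974410817696503560090140133879763232,
  972585098812262587711849628614283552,
  962647101148583727272500489888059680,
  984389335412866629269198819667628320,
  973662195828805096603049043090888288,
  984035383596644963503615728467170912,
  959369441968991605101417979571820128,
  960666252078690145234912720196163168,
  974433650780877274415595883659963648,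
  978232879086441799526177284869434624,
  984778551226145691544909149262458112,
  976541793272145524224165256002710784,
  958157650582824167042245626756192704,
  980635116092604026358934254788873344,
  984330238668445353307680420861740096,
  972715533645191023441926575607612480,
  976990105829392847739289005721748544,
  984721978136738731986858641841030208,
  984276626643360701300950183426163776,
  962737030784108451051703854020691008,
  978327873653409370553588877167592512,
  960073776451580533733545039064925248,
  961360439503047023498727979389224000]

/-- an element of order three centralising the representative -/
def zThree : ℕ := 976531636853126291160407323722221600

end H29.M22
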