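import Cfsg.Agent.H42.J4.M22Facts
import Cfsg.Agent.H29.M22Facts.CentData

/-!
Involutions of `M22`: their number, no elementary abelian subgroup of order `32`, and no elements
of order `35`, `55` or `77`.
-/

set_option autoImplicit false

open Cfsg Subgroup

namespace H29.M22

open H25.M22 (G22 centList centF zN)

theorem ptN_zero : H94.ptN 0 = (some 0 : GolayPt) := by decide +kernel

theorem ptN_last : H94.ptN 23 = (none : GolayPt) := by decide +kernel

theorem idxN_zero : H94.idxN (some 0 : GolayPt) = 0 := by decide +kernel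

theorem idxN_last : H94.idxN (none : GolayPt) = 23 := by decide +kernel

/-- Membership in `M22` of a packed permutation. -/
noncomputable def mem22B (P : ℕ) : Bool :=
  H94.memB P && Nat.beq (H94.pap P 0) 0 && Nat.beq (H94.pap P 23) 23

theorem exists_of_mem22B {P : ℕ} (h : mem22B P = true) : ∃ g : G22, H94.Reps P g.1 := by
  simp only [mem22B, Bool.and_eq_true] at h
  obtain ⟨⟨hm, h0⟩, hn⟩ := h
  obtain ⟨g, hg, hR⟩ := H94.exists_perm_of_memB hm
  have e0 : g (some 0) = some 0 := by
    rw [hR.apply, idxN_zero, Nat.eq_of_beq_eq_true h0, ptN_zero]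
  have en : g none = none := by
    rw [hR.apply, idxN_last, Nat.eq_of_beq_eq_true hn, ptN_last]
  exact ⟨⟨g, Subgroup.mem_inf.2 ⟨Subgroup.mem_inf.2 ⟨hg, en⟩, e0⟩⟩, hR⟩

theorem centList_complete {r : ℕ} {ρ : Equiv.Perm GolayPt} (hR : H94.Reps r ρ) {g : G22}
    (hc : g.1 * ρ = ρ * g.1) : ∃ P ∈ centList r, H94.Reps P g.1 := by
  obtain ⟨⟨hM, hn⟩, h0⟩ := Subgroup.mem_inf.1 g.2
  have h0' : g.1 (some 0) = some 0 := h0
  have hn' : g.1 none = none := hn
  obtain ⟨P, hP, hPR⟩ := H94.search_complete (centF r) hM (fun l hl Q hQ => by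
    rw [centF, Bool.and_eq_true]
    refine ⟨H94.commF_spec hR hc l hl Q hQ, ?_⟩
    rw [hQ 0 (by omega), ptN_zero, h0', idxN_zero]
    exact Nat.beq_refl _)
  refine ⟨P, List.mem_filter.2 ⟨hP, ?_⟩, hPR⟩
  rw [Bool.and_eq_true]
  refine ⟨H94.commB_of_commute hPR hR hc, ?_⟩
  rw [hPR 23 (by norm_num), ptN_last, hn', idxN_last]
  exact Nat.beq_refl _

/-- An involution, in packed form. -/
noncomputable def sqB (P : ℕ) : Bool := H94.peq (H94.pmul P P) H94.pone && !H94.peq P H94.pone

theorem sqB_of_reps {P : ℕ} {g : Equiv.Perm GolayPt} (hR : H94.Reps P g) (h2 : g * g = 1)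
    (h1 : g ≠ 1) : sqB P = true := by
  rw [sqB, Bool.and_eq_true, Bool.not_eq_true']
  refine ⟨(h2 ▸ hR.mul hR : H94.Reps (H94.pmul P P) 1).peq_of_eq H94.reps_one, ?_⟩
  rw [← Bool.not_eq_true]
  exact fun e => h1 (hR.eq_of_peq H94.reps_one e)

theorem sqB_spec {P : ℕ} {g : Equiv.Perm GolayPt} (hR : H94.Reps P g) (h : sqB P = true) :
    g * g = 1 ∧ g ≠ 1 := by
  rw [sqB, Bool.and_eq_true, Bool.not_eq_true'] at h
  refine ⟨(hR.mul hR).eq_of_peq H94.reps_one h.1, fun e => ?_⟩
  subst e
  rw [hR.peq_of_eq H94.reps_one] at h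
  exact absurd h.2 (by simp)

/-- An element of order three, in packed form. -/
noncomputable def cubeB (P : ℕ) : Bool :=
  H94.peq (H94.pmul P (H94.pmul P P)) H94.pone && !H94.peq P H94.pone

theorem cubeB_spec {P : ℕ} {g : G22} (hR : H94.Reps P g.1) (h : cubeB P = true) :
    orderOf g = 3 := by
  rw [cubeB, Bool.and_eq_true, Bool.not_eq_true'] at h
  haveI : Fact (Nat.Prime 3) := ⟨Nat.prime_three⟩
  refine orderOf_eq_prime ?_ fun e => ?_
  · rw [pow_succ', pow_two]
    exact Subtype.ext ((hR.mul (hR.mul hR)).eq_of_peq H94.reps_one h.1)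
  · subst e
    rw [hR.peq_of_eq H94.reps_one] at h
    exact absurd h.2 (by simp)

/-- The involution used as representative. -/
theorem exists_z : ∃ z : G22, H90.Repr z.1 zN ∧ H94.Reps zN z.1 ∧ z * z = 1 ∧ z ≠ 1 := by
  have h := H25.M22.reps_mem
  simp only [Bool.and_eq_true] at h
  obtain ⟨z, hz⟩ := H87.exists_of_mem22 h.1.1.1
  have hR := H25.M22.reps_of_repr hz
  have hz2 : sqB zN = true := by decide +kernel
  obtain ⟨h2, h1⟩ := sqB_spec hR hz2
  exact ⟨z, hz, hR, Subtype.ext h2, fun e => h1 (congrArg Subtype.val e)⟩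

theorem three_cent_ok : (cubeB zThree && H94.commB zN zThree && mem22B zThree) = true := by
  decide +kernel

theorem card_invol : Nat.card {t : G22 // t * t = 1 ∧ t ≠ 1} = 1155 := by
  obtain ⟨z, hz, hR, hz2, hz1⟩ := exists_z
  have hconj : ∀ w : G22, w * w = 1 → w ≠ 1 → IsConj z w := fun w h2 h1 =>
    H25.M22.isConj_inv hz h2 h1
  have hzo : orderOf z = 2 := orderOf_eq_prime (by rw [pow_two, hz2]) hz1
  obtain ⟨hle, h128⟩ := H42.J4.card_cent_invol hzo
  have hQ := three_cent_ok
  simp only [Bool.and_eq_true] at hQ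
  obtain ⟨⟨hQ3, hQc⟩, hQm⟩ := hQ
  obtain ⟨a, ha⟩ := exists_of_mem22B hQm
  have hac : a ∈ centralizer ({z} : Set G22) :=
    mem_centralizer_singleton_iff.2 (Subtype.ext ((ha.mul hR).eq_of_peq (hR.mul ha) hQc))
  have h3 : 3 ∣ Nat.card (centralizer ({z} : Set G22)) :=
    cubeB_spec ha hQ3 ▸ (centralizer ({z} : Set G22)).orderOf_dvd_natCard hac
  have h384 : Nat.card (centralizer ({z} : Set G22)) = 384 :=
    le_antisymm hle (Nat.le_of_dvd Nat.card_pos
      (Nat.Coprime.mul_dvd_of_dvd_of_dvd (by norm_num : Nat.Coprime 128 3) h128 h3))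
  have hset : {t : G22 | t * t = 1 ∧ t ≠ 1} = MulAction.orbit (ConjAct G22) z := by
    ext t
    rw [ConjAct.mem_orbit_conjAct]
    refine ⟨fun h => (hconj t h.1 h.2).symm, fun h => ?_⟩
    obtain ⟨c, hc⟩ := isConj_iff.1 h.symm
    subst hc
    refine ⟨?_, fun e => hz1 (conj_eq_one_iff.1 e)⟩
    calc c * z * c⁻¹ * (c * z * c⁻¹) = c * (z * z) * c⁻¹ := by group
      _ = 1 := by rw [hz2]; group
  show Nat.card {t : G22 | t * t = 1 ∧ t ≠ 1} = 1155
  rw [hset]
  have h := Subgroup.card_mul_index (MulAction.stabilizer (ConjAct G22) z)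
  rw [MulAction.index_stabilizer, ← Nat.card_coe_set_eq] at h
  have hs : Nat.card (MulAction.stabilizer (ConjAct G22) z) = 384 := by
    rw [← h384]
    refine Nat.card_congr (ConjAct.ofConjAct.toEquiv.subtypeEquiv fun g => ?_)
    rw [MulAction.mem_stabilizer_iff, ConjAct.smul_def, mem_centralizer_singleton_iff,
      mul_inv_eq_iff_eq_mul]
    rfl
  rw [hs, show Nat.card (ConjAct G22) = 443520 from H25.M22.card22] at h
  omega

/-- The involutions of the centraliser of the representative, other than itself. -/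
noncomputable def invList : List ℕ := (centList zN).filter fun P => sqB P && !H94.peq P zN

theorem invList_ok : (invList.all fun P => zInvols.any fun Q => H94.peq P Q && mem22B Q) = true := by
  decide +kernel

theorem deg_ok : (zInvols.all fun P =>
    Nat.ble ((zInvols.filter (H94.commB P)).length) 27) = true := by decide +kernel

theorem no_abelian_32 (A : Subgroup G22) (hA : ∀ a ∈ A, a * a = 1) : Nat.card A ≠ 32 := by
  classical
  intro h32
  obtain ⟨z, hz, hR, hz2, hz1⟩ := exists_z
  haveI : Nontrivial A := Finite.one_lt_card_iff_nontrivial.1 (by rw [h32]; norm_num)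
  obtain ⟨⟨t, htA⟩, ht⟩ := exists_ne (1 : A)
  obtain ⟨c, hc⟩ := isConj_iff.1
    (H25.M22.isConj_inv hz (hA t htA) fun e => ht (Subtype.ext e)).symm
  set B : Subgroup G22 := A.map (MulAut.conj c).toMonoidHom with hB
  have hB32 : Nat.card B = 32 := by
    rw [hB, Subgroup.card_map_of_injective (MulAut.conj c).injective, h32]
  have hB2 : ∀ b ∈ B, b * b = 1 := by
    rintro _ ⟨a, ha, rfl⟩
    rw [← map_mul, hA a ha, map_one]
  have hzB : z ∈ B := ⟨t, htA, hc⟩
  have hcomm : ∀ a ∈ B, ∀ b ∈ B, a * b = b * a := fun a ha b hb => by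
    rw [← inv_eq_of_mul_eq_one_right (hB2 _ (mul_mem ha hb)), mul_inv_rev,
      inv_eq_of_mul_eq_one_right (hB2 a ha), inv_eq_of_mul_eq_one_right (hB2 b hb)]
  let S : Finset G22 := Finset.univ.filter fun b => b ∈ B ∧ b ≠ 1 ∧ b ≠ z
  have hS : 30 ≤ S.card := by
    have h1 : (Finset.univ.filter fun b => b ∈ B).card = 32 := by
      rw [← hB32, Nat.card_eq_fintype_card, Fintype.card_subtype]
    have h2 : Finset.univ.filter (fun b => b ∈ B) ⊆ insert 1 (insert z S) := by
      intro b hb
      simp only [S, Finset.mem_filter, Finset.mem_univ, true_and, Finset.mem_insert] at hb ⊢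
      by_cases e1 : b = 1
      · exact Or.inl e1
      · by_cases e2 : b = z
        · exact Or.inr (Or.inl e2)
        · exact Or.inr (Or.inr ⟨hb, e1, e2⟩)
    have := Finset.card_le_card h2
    have h3 := Finset.card_insert_le (1 : G22) (insert z S)
    have h4 := Finset.card_insert_le z S
    omega
  have hmem : ∀ b ∈ S, ∃ P ∈ zInvols, H94.Reps P b.1 := by
    intro b hb
    simp only [S, Finset.mem_filter, Finset.mem_univ, true_and] at hb
    obtain ⟨hbB, hb1, hbz⟩ := hb
    obtain ⟨P, hP, hPR⟩ := centList_complete hR (g := b)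
      (congrArg Subtype.val (hcomm b hbB z hzB))
    have hPI : P ∈ invList := List.mem_filter.2 ⟨hP, ?_⟩
    · obtain ⟨Q, hQ, hQ'⟩ := List.any_eq_true.1 (List.all_eq_true.1 invList_ok P hPI)
      rw [Bool.and_eq_true] at hQ'
      obtain ⟨g, hg⟩ := exists_of_mem22B hQ'.2
      exact ⟨Q, hQ, hPR.eq_of_peq hg hQ'.1 ▸ hg⟩
    rw [sqB_of_reps hPR (congrArg Subtype.val (hB2 b hbB)) fun e => hb1 (Subtype.ext e)]
    rw [Bool.true_and, Bool.not_eq_true', ← Bool.not_eq_true]
    exact fun e => hbz (Subtype.ext (hPR.eq_of_peq hR e))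
  obtain ⟨a, ha⟩ := Finset.card_pos.1 (by omega : 0 < S.card)
  obtain ⟨P, hP, hPR⟩ := hmem a ha
  have hdeg := Nat.le_of_ble_eq_true (List.all_eq_true.1 deg_ok P hP)
  have hex : ∀ b : S, ∃ Q ∈ (zInvols.filter (H94.commB P)).toFinset, H94.Reps Q b.1.1 := by
    intro b
    obtain ⟨Q, hQ, hQR⟩ := hmem b.1 b.2
    refine ⟨Q, List.mem_toFinset.2 (List.mem_filter.2 ⟨hQ, ?_⟩), hQR⟩
    simp only [S, Finset.mem_filter, Finset.mem_univ, true_and] at ha
    have hb := b.2
    simp only [S, Finset.mem_filter, Finset.mem_univ, true_and] at hb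
    exact H94.commB_of_commute hQR hPR (congrArg Subtype.val (hcomm b.1 hb.1 a ha.1))
  choose f hf hfR using hex
  have hle := Finset.card_le_card_of_injOn (s := (Finset.univ : Finset S)) f (fun b _ => hf b)
    fun x _ y _ e => Subtype.ext (Subtype.ext ((hfR x).unique (e ▸ hfR y)))
  rw [Finset.card_univ, Fintype.card_coe] at hle
  have := hle.trans (List.toFinset_card_le _)
  omega

attribute [local irreducible] centList

/-- A representative of order five. -/
def five : ℕ := 966307691088872045372346498067631168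

/-- A representative of order seven. -/
def seven : ℕ := 974107372017165119444049947016760384

attribute [local semireducible] centList in
theorem five_ok : (mem22B five && Nat.ble (centList five).length 5 && !H94.peq five H94.pone &&
    H94.peq (H94.pmul five (H94.pmul five (H94.pmul five (H94.pmul five five)))) H94.pone) = true := by
  decide +kernel

attribute [local semireducible] centList in
theorem seven_ok : (mem22B seven && Nat.ble (centList seven).length 7 && !H94.peq seven H94.pone &&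
    H94.peq (H94.pmul seven (H94.pmul seven (H94.pmul seven (H94.pmul seven (H94.pmul seven
      (H94.pmul seven seven)))))) H94.pone) = true := by
  decide +kernel

/-- The centraliser of an element of prime order `p` with `p` exactly dividing the order has order `p`,
if this holds for one element. -/
theorem card_cent_prime {p : ℕ} [Fact p.Prime] (hfac : (Nat.card G22).factorization p = 1)
    {f : G22} (hf : orderOf f = p) (hC : Nat.card (centralizer ({f} : Set G22)) ≤ p)
    {a : G22} (ha : orderOf a = p) {b : G22} (hb : b * a = a * b) : orderOf b ∣ p := by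
  have hfC : Nat.card (centralizer ({f} : Set G22)) = p :=
    le_antisymm hC (Nat.le_of_dvd Nat.card_pos
      (hf ▸ (centralizer ({f} : Set G22)).orderOf_dvd_natCard (mem_centralizer_singleton_iff.2 rfl)))
  let Pa : Sylow p G22 := Sylow.ofCard (zpowers a) (by rw [Nat.card_zpowers, ha, hfac, pow_one])
  let Pf : Sylow p G22 := Sylow.ofCard (zpowers f) (by rw [Nat.card_zpowers, hf, hfac, pow_one])
  obtain ⟨c, hc⟩ := MulAction.exists_smul_eq G22 Pa Pf
  have hm : c * a * c⁻¹ ∈ zpowers f := by
    have h1 : c * a * c⁻¹ ∈ ((c • Pa : Sylow p G22) : Subgroup G22) := by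
      rw [Sylow.coe_subgroup_smul]
      exact ⟨a, mem_zpowers a, by simp⟩
    rw [hc] at h1
    exact h1
  have hfm : f ∈ zpowers (c * a * c⁻¹) := by
    have e : zpowers (c * a * c⁻¹) = zpowers f := by
      refine Subgroup.eq_of_le_of_card_ge (zpowers_le.2 hm) ?_
      rw [Nat.card_zpowers, Nat.card_zpowers, hf, ← MulAut.conj_apply, MulEquiv.orderOf_eq, ha]
    rw [e]
    exact mem_zpowers f
  have hbc : Commute (c * b * c⁻¹) (c * a * c⁻¹) := by
    show c * b * c⁻¹ * (c * a * c⁻¹) = c * a * c⁻¹ * (c * b * c⁻¹)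
    calc c * b * c⁻¹ * (c * a * c⁻¹) = c * (b * a) * c⁻¹ := by group
      _ = c * (a * b) * c⁻¹ := by rw [hb]
      _ = _ := by group
  obtain ⟨k, hk⟩ := mem_zpowers_iff.1 hfm
  have hbf : c * b * c⁻¹ ∈ centralizer ({f} : Set G22) :=
    mem_centralizer_singleton_iff.2 (hk ▸ (hbc.zpow_right k).eq)
  have h := (centralizer ({f} : Set G22)).orderOf_dvd_natCard hbf
  rwa [hfC, ← MulAut.conj_apply, MulEquiv.orderOf_eq] at h

theorem card_cent_le {r : ℕ} {f : G22} (hf : H94.Reps r f.1) :
    Nat.card (centralizer ({f} : Set G22)) ≤ (centList r).length := by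
  classical
  have hex : ∀ c : centralizer ({f} : Set G22), ∃ i : Fin (centList r).length,
      H94.Reps (centList r)[i.val] (c : G22).1 := fun c => by
    obtain ⟨P, hP, hPR⟩ := centList_complete hf (g := (c : G22))
      (congrArg Subtype.val (mem_centralizer_singleton_iff.1 c.2))
    obtain ⟨i, hi, rfl⟩ := List.getElem_of_mem hP
    exact ⟨⟨i, hi⟩, hPR⟩
  choose g hg using hex
  have hinj : Function.Injective g := fun c d h =>
    Subtype.ext (Subtype.ext ((hg c).unique (h ▸ hg d)))
  exact (Nat.card_le_card_of_injective g hinj).trans (by rw [Nat.card_fin])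

theorem fac_five : (Nat.card G22).factorization 5 = 1 := by
  rw [H25.M22.card22, show (443520 : ℕ) = 5 ^ 1 * 88704 by norm_num,
    Nat.factorization_mul (by norm_num) (by norm_num), Nat.Prime.factorization_pow (by norm_num)]
  simp [Nat.factorization_eq_zero_of_not_dvd (show ¬ 5 ∣ 88704 by norm_num)]

theorem fac_seven : (Nat.card G22).factorization 7 = 1 := by
  rw [H25.M22.card22, show (443520 : ℕ) = 7 ^ 1 * 63360 by norm_num,
    Nat.factorization_mul (by norm_num) (by norm_num), Nat.Prime.factorization_pow (by norm_num)]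
  simp [Nat.factorization_eq_zero_of_not_dvd (show ¬ 7 ∣ 63360 by norm_num)]

theorem exists_five : ∃ f : G22, orderOf f = 5 ∧
    Nat.card (centralizer ({f} : Set G22)) ≤ 5 := by
  haveI : Fact (Nat.Prime 5) := ⟨by norm_num⟩
  have h := five_ok
  simp only [Bool.and_eq_true, Bool.not_eq_true'] at h
  obtain ⟨⟨⟨hm, hl⟩, h1⟩, h5⟩ := h
  obtain ⟨f, hf⟩ := exists_of_mem22B hm
  refine ⟨f, orderOf_eq_prime ?_ fun e => ?_, ?_⟩
  · refine Subtype.ext ?_
    have := (hf.mul (hf.mul (hf.mul (hf.mul hf)))).eq_of_peq H94.reps_one h5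
    simpa [pow_succ', mul_assoc] using this
  · subst e
    rw [hf.peq_of_eq H94.reps_one] at h1
    simp at h1
  · have key : ∀ m k : ℕ, Nat.ble m k = true → m ≤ k := fun m k h => Nat.le_of_ble_eq_true h
    exact (card_cent_le hf).trans (key _ _ hl)

theorem exists_seven : ∃ f : G22, orderOf f = 7 ∧
    Nat.card (centralizer ({f} : Set G22)) ≤ 7 := by
  haveI : Fact (Nat.Prime 7) := ⟨by norm_num⟩
  have h := seven_ok
  simp only [Bool.and_eq_true, Bool.not_eq_true'] at h
  obtain ⟨⟨⟨hm, hl⟩, h1⟩, h5⟩ := h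
  obtain ⟨f, hf⟩ := exists_of_mem22B hm
  refine ⟨f, orderOf_eq_prime ?_ fun e => ?_, ?_⟩
  · refine Subtype.ext ?_
    have := (hf.mul (hf.mul (hf.mul (hf.mul (hf.mul (hf.mul hf)))))).eq_of_peq H94.reps_one h5
    simpa [pow_succ', mul_assoc] using this
  · subst e
    rw [hf.peq_of_eq H94.reps_one] at h1
    simp at h1
  · have key : ∀ m k : ℕ, Nat.ble m k = true → m ≤ k := fun m k h => Nat.le_of_ble_eq_true h
    exact (card_cent_le hf).trans (key _ _ hl)

theorem no_order (a : G22) : orderOf a ≠ 35 ∧ orderOf a ≠ 55 ∧ orderOf a ≠ 77 := by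
  have key : ∀ p q : ℕ, p.Prime → (Nat.card G22).factorization p = 1 →
      (∃ f : G22, orderOf f = p ∧ Nat.card (centralizer ({f} : Set G22)) ≤ p) →
      orderOf a = p * q → 1 < q → ¬ q ∣ p → False := by
    intro p q hp hfac ⟨f, hf, hC⟩ ha hq hnd
    haveI : Fact p.Prime := ⟨hp⟩
    have h1 : orderOf (a ^ q) = p := by
      rw [orderOf_pow' a (by omega), ha, Nat.gcd_mul_left_left, Nat.mul_div_cancel _ (by omega)]
    have h2 : orderOf (a ^ p) = q := by
      rw [orderOf_pow' a hp.ne_zero, ha, Nat.gcd_mul_right_left, Nat.mul_div_cancel_left _ hp.pos]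
    exact hnd (h2 ▸ card_cent_prime hfac hf hC h1 ((Commute.refl a).pow_pow p q).eq)
  refine ⟨fun h => ?_, fun h => ?_, fun h => ?_⟩
  · exact key 5 7 (by norm_num) fac_five exists_five (by rw [h]) (by norm_num) (by norm_num)
  · exact key 5 11 (by norm_num) fac_five exists_five (by rw [h]) (by norm_num) (by norm_num)
  · exact key 7 11 (by norm_num) fac_seven exists_seven (by rw [h]) (by norm_num) (by norm_num)

end H29.M22
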