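import Cfsg.Agent.H29.M22Facts.Model
import Cfsg.Agent.H29.M22Facts.Counts
import Cfsg.Agent.H29.M22Facts.InvData

/-!
Outer involutions of `M22`: at most `104` involutions are fixed by one, and some outer involution
fixes an element of order three.
-/

set_option autoImplicit false

open Cfsg Subgroup

namespace H29.M22

open H25.M22 (G22 centList centF zN)

/-- Membership in the outer coset of a packed permutation. -/
noncomputable def outB (P : ℕ) : Bool :=
  H94.memB P && Nat.beq (H94.pap P 0) 23 && Nat.beq (H94.pap P 23) 0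

theorem exists_of_outB {P : ℕ} (h : outB P = true) :
    ∃ g : ↥A22, H94.Reps P g.1 ∧ (g : Equiv.Perm GolayPt) none = some 0 := by
  simp only [outB, Bool.and_eq_true] at h
  obtain ⟨⟨hm, h0⟩, hn⟩ := h
  obtain ⟨g, hg, hR⟩ := H94.exists_perm_of_memB hm
  have e0 : g (some 0) = none := by
    rw [hR.apply, idxN_zero, Nat.eq_of_beq_eq_true h0, ptN_last]
  have en : g none = some 0 := by
    rw [hR.apply, idxN_last, Nat.eq_of_beq_eq_true hn, ptN_zero]
  exact ⟨⟨g, mem_A22.2 ⟨hg, Or.inr ⟨en, e0⟩⟩⟩, hR, en⟩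

theorem not_inner_of_outer {g : ↥A22} (h : (g : Equiv.Perm GolayPt) none = some 0) :
    autEquiv g ∉ (MulAut.conj : G22 →* MulAut G22).range := fun hg => by
  rw [autEquiv_mem_inner, h] at hg
  exact Option.some_ne_none _ hg

/-- The outer candidates commuting with the representative involution. -/
noncomputable def outList : List ℕ :=
  (H94.search fun l Q => H94.commF zN l Q && Nat.beq (H94.pap Q 0) 23).filter fun P =>
    H94.commB zN P && Nat.beq (H94.pap P 23) 0 && sqB P

/-- One line of the table. -/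
noncomputable def convB (P : ℕ) (e : ℕ × ℕ × ℕ) : Bool :=
  H94.peq P e.1 && decide (e.2.1 < repList.length) && mem22B e.2.2 &&
    H94.peq (H94.pmul e.2.2 (repList.getD e.2.1 0)) (H94.pmul e.1 e.2.2)

theorem conv_ok : (outList.all fun P => outConj.any (convB P)) = true := by decide +kernel

/-- The fixed involutions of a representative. -/
noncomputable def fixList (r : ℕ) : List ℕ := (centList r).filter sqB

theorem count_ok : (repList.all fun r => outB r && Nat.ble (fixList r).length 104) = true := by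
  decide +kernel

theorem three_ok : (outB (repList.getD threeIx 0) && sqB (repList.getD threeIx 0) &&
    mem22B threeFix && cubeB threeFix &&
    H94.commB (repList.getD threeIx 0) threeFix) = true := by decide +kernel

theorem exists_outer_invol : ∃ α : MulAut G22, α * α = 1 ∧
    α ∉ (MulAut.conj : G22 →* MulAut G22).range ∧ ∃ a : G22, orderOf a = 3 ∧ α a = a := by
  have h := three_ok
  simp only [Bool.and_eq_true] at h
  obtain ⟨⟨⟨⟨ho, hs⟩, hm⟩, h3⟩, hc⟩ := h
  obtain ⟨g, hg, hgn⟩ := exists_of_outB ho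
  obtain ⟨a, ha⟩ := exists_of_mem22B hm
  refine ⟨autEquiv g, ?_, not_inner_of_outer hgn, a, cubeB_spec ha h3, ?_⟩
  · rw [← map_mul, show g * g = 1 from Subtype.ext (sqB_spec hg hs).1, map_one]
  · refine Subtype.ext ?_
    show g.1 * a.1 * (g.1)⁻¹ = a.1
    rw [mul_inv_eq_iff_eq_mul]
    exact ((ha.mul hg).eq_of_peq (hg.mul ha) hc).symm

/-- The model count: involutions of `M22` commuting with an outer involution of the model. -/
theorem card_fix_le {g : Equiv.Perm GolayPt} {r : ℕ} (hr : H94.Reps r g) :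
    Nat.card {t : G22 // t * t = 1 ∧ t ≠ 1 ∧ g * t.1 = t.1 * g} ≤ (fixList r).length := by
  classical
  have hex : ∀ t : {t : G22 // t * t = 1 ∧ t ≠ 1 ∧ g * t.1 = t.1 * g},
      ∃ i : Fin (fixList r).length, H94.Reps (fixList r)[i.val] t.1.1 := by
    rintro ⟨t, h2, h1, hc⟩
    obtain ⟨P, hP, hPR⟩ := centList_complete hr (g := t) hc.symm
    obtain ⟨i, hi, e⟩ := List.getElem_of_mem (List.mem_filter.2 ⟨hP,
      sqB_of_reps hPR (congrArg Subtype.val h2) fun e => h1 (Subtype.ext e)⟩ : P ∈ fixList r)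
    exact ⟨⟨i, hi⟩, e ▸ hPR⟩
  choose f hf using hex
  have hinj : Function.Injective f := fun c d h =>
    Subtype.ext (Subtype.ext ((hf c).unique (h ▸ hf d)))
  exact (Nat.card_le_card_of_injective f hinj).trans (by rw [Nat.card_fin])

/-- An involutory permutation of a finite type of odd cardinality fixes a point. -/
theorem exists_fixed_of_odd {X : Type*} [Finite X] (f : X → X) (hf : ∀ x, f (f x) = x)
    (hodd : Odd (Nat.card X)) : ∃ x, f x = x := by
  classical
  haveI := Fintype.ofFinite X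
  by_contra h
  simp only [not_exists] at h
  have h0 : (Finset.univ : Finset X).sum (fun _ => (1 : ZMod 2)) = 0 :=
    Finset.sum_involution (fun x _ => f x) (fun _ _ => by decide) (fun x _ _ => h x)
      (fun x _ => Finset.mem_univ _) (fun x _ => hf x)
  rw [Finset.sum_const, Finset.card_univ, nsmul_one, ← Nat.card_eq_fintype_card,
    ZMod.natCast_eq_zero_iff_even] at h0
  exact absurd h0 (Nat.not_even_iff_odd.2 hodd)

theorem outer_fix_le (α : MulAut G22) (h2 : α * α = 1)
    (hout : α ∉ (MulAut.conj : G22 →* MulAut G22).range) :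
    Nat.card {t : G22 // t * t = 1 ∧ t ≠ 1 ∧ α t = t} ≤ 104 := by
  classical
  obtain ⟨g, rfl⟩ := autEquiv.surjective α
  have hg2 : g * g = 1 := autEquiv.injective (by rw [map_mul, h2, map_one])
  obtain ⟨hgM, hcase⟩ := mem_A22.1 g.2
  have hswap : (g : Equiv.Perm GolayPt) none = some 0 ∧ (g : Equiv.Perm GolayPt) (some 0) = none :=
    hcase.resolve_left fun h => hout ((autEquiv_mem_inner g).2 h.1)
  have hfix : ∀ t : G22, autEquiv g t = t ↔ g.1 * t.1 = t.1 * g.1 := fun t => by
    rw [Subtype.ext_iff, show (autEquiv g t).1 = g.1 * t.1 * (g.1)⁻¹ from rfl,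
      mul_inv_eq_iff_eq_mul]
  -- some involution is fixed
  obtain ⟨⟨t, ht2, ht1⟩, htf⟩ :=
    exists_fixed_of_odd (X := {t : G22 // t * t = 1 ∧ t ≠ 1})
      (fun t => ⟨autEquiv g t.1, by rw [← map_mul, t.2.1, map_one],
        fun e => t.2.2 ((autEquiv g).injective (e.trans (map_one _).symm))⟩)
      (fun t => Subtype.ext (by
        show autEquiv g (autEquiv g t.1) = t.1
        rw [← MulAut.mul_apply, h2]; rfl))
      (by rw [card_invol]; decide)
  have htc : g.1 * t.1 = t.1 * g.1 := (hfix t).1 (congrArg Subtype.val htf)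
  -- move it to the representative
  obtain ⟨z, hz, hzR, -, -⟩ := exists_z
  obtain ⟨h, hh⟩ := isConj_iff.1 (H25.M22.isConj_inv hz ht2 ht1).symm
  set H : ↥A22 := ⟨h.1, m22_le_A22 h.2⟩ with hH
  set g1 : ↥A22 := H * g * H⁻¹ with hg1
  have e1 : g1.1 = h.1 * g.1 * (h.1)⁻¹ := rfl
  have hmemh := mem_M22_iff.1 h.2
  have hn1 : g1.1 none = some 0 := by
    rw [e1]
    simp [(Equiv.symm_apply_eq h.1).2 hmemh.2.1.symm, hswap.1, hmemh.2.2]
  have h01 : g1.1 (some 0) = none := by
    rw [e1]
    simp [(Equiv.symm_apply_eq h.1).2 hmemh.2.2.symm, hswap.2, hmemh.2.1]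
  have hg12 : g1.1 * g1.1 = 1 := by
    rw [e1, show h.1 * g.1 * (h.1)⁻¹ * (h.1 * g.1 * (h.1)⁻¹) = h.1 * (g * g : ↥A22).1 * (h.1)⁻¹ by
      simp [mul_assoc], hg2]
    simp
  have hcz : g1.1 * z.1 = z.1 * g1.1 := by
    have ez : z.1 = h.1 * t.1 * (h.1)⁻¹ := (congrArg Subtype.val hh).symm
    rw [e1, ez]
    simp only [mul_assoc, inv_mul_cancel_left]
    rw [← mul_assoc g.1 t.1, htc, mul_assoc]
  obtain ⟨P, hP, hPR⟩ := H94.search_complete (fun l Q => H94.commF zN l Q && Nat.beq (H94.pap Q 0) 23)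
    (mem_A22.1 g1.2).1 (fun l hl Q hQ => by
      rw [Bool.and_eq_true]
      refine ⟨H94.commF_spec hzR hcz l hl Q hQ, ?_⟩
      rw [hQ 0 (by omega), ptN_zero, h01, idxN_last]
      exact Nat.beq_refl _)
  have hPmem : P ∈ outList := by
    refine List.mem_filter.2 ⟨hP, ?_⟩
    rw [Bool.and_eq_true, Bool.and_eq_true]
    refine ⟨⟨H94.commB_of_commute hPR hzR hcz, ?_⟩, sqB_of_reps hPR hg12 fun e => ?_⟩
    · rw [hPR 23 (by norm_num), ptN_last, hn1, idxN_zero]
      exact Nat.beq_refl _
    · rw [e] at hn1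
      exact Option.some_ne_none _ hn1.symm
  obtain ⟨⟨a, k, c⟩, -, hcv⟩ := List.any_eq_true.1 (List.all_eq_true.1 conv_ok P hPmem)
  simp only [convB, Bool.and_eq_true, decide_eq_true_eq] at hcv
  obtain ⟨⟨⟨hPa, hk⟩, hcm⟩, hcj⟩ := hcv
  have hrep := List.all_eq_true.1 count_ok _ (List.getElem_mem hk)
  rw [List.getD_eq_getElem _ _ hk] at hcj
  simp only [Bool.and_eq_true] at hrep
  obtain ⟨hro, hcount⟩ := hrep
  obtain ⟨r, hr, -⟩ := exists_of_outB hro
  obtain ⟨γ, hγ⟩ := exists_of_mem22B hcm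
  -- `g1 = γ r γ⁻¹`
  have hcode : H94.Reps a g1.1 := fun i hi => by
    rw [← hPR i hi]
    exact (Nat.eq_of_beq_eq_true (List.all_eq_true.1 hPa i (List.mem_range.2 hi))).symm
  have hconj : γ.1 * r.1 = g1.1 * γ.1 := (hγ.mul hr).eq_of_peq (hcode.mul hγ) hcj
  -- transport the fixed involutions
  set D : G22 := γ⁻¹ * h with hD
  have hrD : r.1 = D.1 * g.1 * (D.1)⁻¹ := by
    have : r.1 = (γ.1)⁻¹ * g1.1 * γ.1 := by rw [mul_assoc, ← hconj, inv_mul_cancel_left]
    rw [this, e1, hD]
    simp [mul_assoc]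
  refine le_trans (le_of_eq ?_) ((card_fix_le hr).trans
    ((fun m k (h : Nat.ble m k = true) => Nat.le_of_ble_eq_true h) _ _ hcount))
  refine Nat.card_congr ((MulAut.conj D).toEquiv.subtypeEquiv fun u => ?_)
  simp only [MulEquiv.toEquiv_eq_coe, MulEquiv.coe_toEquiv]
  refine and_congr ⟨fun e => by rw [← map_mul, e, map_one],
    fun e => (MulAut.conj D).injective (by rw [map_mul, e, map_one])⟩
    (and_congr (not_congr ⟨fun e => by rw [e, map_one],
      fun e => (MulAut.conj D).injective (by rw [e, map_one])⟩) ?_)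
  rw [hfix, hrD, show (MulAut.conj D u).1 = D.1 * u.1 * (D.1)⁻¹ from rfl]
  simp only [mul_assoc, inv_mul_cancel_left]
  constructor
  · intro e
    rw [← mul_assoc g.1, e, mul_assoc]
  · intro e
    have e' := mul_left_cancel e
    rw [← mul_assoc, ← mul_assoc u.1] at e'
    exact mul_right_cancel e'

end H29.M22
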